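import Cfsg.Agent.M11.Model
import Cfsg.Prelude.Def_Spor_Mathieu

/-! The Golay code in coded form and the identification of `Spor.M11` with the model. -/

set_option autoImplicit false

namespace Cfsg.Agent.M11

open MulAction Subgroup
open scoped Pointwise

/-- Index of a point. -/
def idx : GolayPt → ℕ
  | none => 23
  | some x => x.val

/-- Point with a given index. -/
def pt (i : ℕ) : GolayPt := if i = 23 then none else some (i : ZMod 23)

/-- The word with a given bit mask. -/
def wOf (m : ℕ) : GolayPt → ZMod 2 := fun p => if m.testBit (idx p) then 1 else 0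

theorem wOf_xor (a b : ℕ) : wOf (a ^^^ b) = wOf a + wOf b := by
  ext p
  simp only [wOf, Nat.testBit_xor, Pi.add_apply]
  cases a.testBit (idx p) <;> cases b.testBit (idx p) <;> decide

theorem wOf_zero : wOf 0 = 0 := by ext p; simp [wOf]

theorem testBit_eq_of_wOf {a b : ℕ} {x y : GolayPt} (h : wOf a x = wOf b y) :
    a.testBit (idx x) = b.testBit (idx y) := by
  unfold wOf at h
  revert h
  cases a.testBit (idx x) <;> cases b.testBit (idx y) <;> decide

/-- The span of a list of masks. -/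
def inSpan : List ℕ → ℕ → Prop
  | [], m => m = 0
  | b :: bs, m => inSpan bs m ∨ inSpan bs (m ^^^ b)

theorem inSpan_zero : ∀ bs : List ℕ, inSpan bs 0
  | [] => rfl
  | _ :: bs => Or.inl (inSpan_zero bs)

theorem inSpan.xor : ∀ {bs : List ℕ} {m n : ℕ}, inSpan bs m → inSpan bs n → inSpan bs (m ^^^ n)
  | [], _, _, h1, h2 => by rw [show _ = 0 from h1, show _ = 0 from h2]; rfl
  | b :: _, m, n, h1, h2 => by
    rcases h1 with h1 | h1 <;> rcases h2 with h2 | h2
    · exact Or.inl (h1.xor h2)
    · exact Or.inr (by rw [Nat.xor_assoc]; exact h1.xor h2)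
    · exact Or.inr (by rw [Nat.xor_right_comm]; exact h1.xor h2)
    · exact Or.inl (by
        have := h1.xor h2
        rwa [Nat.xor_assoc, Nat.xor_left_comm b, Nat.xor_self, Nat.xor_zero] at this)

/-- Reduction by pivots. -/
def red : List (ℕ × ℕ) → ℕ → ℕ
  | [], m => m
  | b :: bs, m => red bs (if m.testBit b.2 then m ^^^ b.1 else m)

theorem inSpan_of_red : ∀ {bs : List (ℕ × ℕ)} {m : ℕ}, red bs m = 0 → inSpan (bs.map Prod.fst) m
  | [], _, h => h
  | b :: _, m, h => by
    unfold red at h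
    split_ifs at h
    exacts [Or.inr (inSpan_of_red h), Or.inl (inSpan_of_red h)]

/-- A check on all members of a span. -/
def allSpan (P : ℕ → Bool) : List ℕ → ℕ → Bool
  | [], a => P a
  | b :: bs, a => allSpan P bs a && allSpan P bs (a ^^^ b)

theorem allSpan_spec {P : ℕ → Bool} : ∀ {bs : List ℕ} {a m : ℕ}, allSpan P bs a = true → inSpan bs m →
    P (a ^^^ m) = true
  | [], _, _, h, hm => by rw [show _ = 0 from hm, Nat.xor_zero]; exact h
  | b :: _, a, m, h, hm => by
    unfold allSpan at h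
    rw [Bool.and_eq_true] at h
    rcases hm with hm | hm
    · exact allSpan_spec h.1 hm
    · have := allSpan_spec h.2 hm
      rwa [Nat.xor_assoc, Nat.xor_left_comm b, Nat.xor_self, Nat.xor_zero] at this

theorem wOf_mem_of_inSpan {C : Submodule (ZMod 2) (GolayPt → ZMod 2)} :
    ∀ {bs : List ℕ} {m : ℕ}, (∀ b ∈ bs, wOf b ∈ C) → inSpan bs m → wOf m ∈ C
  | [], _, _, h => by rw [show _ = 0 from h, wOf_zero]; exact C.zero_mem
  | b :: _, m, hb, h => by
    have hb' := fun c hc => hb c (List.mem_cons_of_mem _ hc)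
    rcases h with h | h
    · exact wOf_mem_of_inSpan hb' h
    · have := wOf_mem_of_inSpan hb' h
      rw [wOf_xor] at this
      exact (C.add_mem_iff_left (hb b List.mem_cons_self)).mp this

/-- Combination selected by the binary digits of a number. -/
def comb : List ℕ → ℕ → ℕ
  | [], _ => 0
  | b :: bs, i => if i % 2 = 1 then comb bs (i / 2) ^^^ b else comb bs (i / 2)

theorem inSpan_comb : ∀ (bs : List ℕ) (i : ℕ), inSpan bs (comb bs i)
  | [], _ => rfl
  | b :: bs, i => by
    unfold comb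
    split_ifs
    · exact Or.inr (by rw [Nat.xor_assoc, Nat.xor_self, Nat.xor_zero]; exact inSpan_comb bs _)
    · exact Or.inl (inSpan_comb bs _)

/-- Masks of the spanning words. -/
def qm : List ℕ := [340831, 681662, 1363324, 2726648, 5453296, 2517985, 5035970, 1683333, 3366666, 6733332,
  5078057, 1767507, 3535014, 7070028, 5751449, 3114291, 6228582, 4068557, 8137114, 7885621, 7382635, 6376663,
  4364719, 16777215]

/-- A basis with pivots. -/
def bas : List (ℕ × ℕ) := [(340831, 18), (681662, 19), (1179171, 20), (2358342, 21), (4377555, 22), (42232, 15),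
  (84464, 16), (145176, 17), (5279, 12), (10558, 13), (18147, 14), (8391797, 23)]

theorem qrWord_eq : ∀ (t : ZMod 23) (x : GolayPt), qrWord t x = wOf (qm.getD t.val 0) x := by
  decide +kernel

theorem mem_golay {w : GolayPt → ZMod 2} :
    w ∈ golayCode ↔ ∃ m, inSpan (bas.map Prod.fst) m ∧ w = wOf m := by
  have h1 : (1 : GolayPt → ZMod 2) = wOf 16777215 := funext (by decide +kernel)
  constructor
  · intro hw
    induction hw using Submodule.span_induction with
    | mem x hx =>
      rcases hx with ⟨t, rfl⟩ | rfl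
      · exact ⟨_, inSpan_of_red (by revert t; decide +kernel), funext (qrWord_eq t)⟩
      · exact ⟨_, inSpan_of_red (by decide +kernel), h1⟩
    | zero => exact ⟨0, inSpan_zero _, wOf_zero.symm⟩
    | add x y _ _ hx hy =>
      obtain ⟨m, hm, rfl⟩ := hx
      obtain ⟨n, hn, rfl⟩ := hy
      exact ⟨_, hm.xor hn, (wOf_xor _ _).symm⟩
    | smul c x _ hx =>
      obtain rfl | rfl := (by decide : ∀ c : ZMod 2, c = 0 ∨ c = 1) c
      · exact ⟨0, inSpan_zero _, by rw [zero_smul, wOf_zero]⟩
      · rwa [one_smul]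
  · rintro ⟨m, hm, rfl⟩
    refine wOf_mem_of_inSpan (fun b hb => ?_) hm
    obtain ⟨i, -, rfl⟩ := (by decide +kernel : ∀ b ∈ bas.map Prod.fst,
      ∃ i ∈ [1, 2, 5, 10, 21, 43, 86, 135, 345, 690, 1085, 8390294], comb qm i = b) b hb
    refine wOf_mem_of_inSpan (fun q hq => Submodule.subset_span ?_) (inSpan_comb _ _)
    rcases (by decide +kernel : ∀ q ∈ qm, q = 16777215 ∨ ∃ t : ZMod 23, qm.getD t.val 0 = q) q hq with
      rfl | ⟨t, rfl⟩
    exacts [Or.inr h1.symm, Or.inl ⟨t, funext (qrWord_eq t)⟩]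

theorem support_comp (g : Equiv.Perm GolayPt) (w : GolayPt → ZMod 2) :
    support₂ (w ∘ g.symm) = g • support₂ w := by
  ext x
  rw [← Finset.inv_smul_mem_iff]
  simp [support₂]

theorem comp_mem_of_mem {g : Equiv.Perm GolayPt} (hg : g ∈ M24) {w : GolayPt → ZMod 2} (hw : w ∈ golayCode) :
    w ∘ g.symm ∈ golayCode := by
  have h1 : g • support₂ w ∈ supports (golayCode : Set (GolayPt → ZMod 2)) := by
    rw [← mem_stabilizer_iff.mp hg]
    exact Set.smul_mem_smul_set ⟨w, hw, rfl⟩
  obtain ⟨w', hw', e⟩ := h1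
  rw [← support_comp] at e
  have h3 : w ∘ g.symm = w' := funext fun x => by
    have h2 := Finset.ext_iff.mp e x
    simp only [support₂, Finset.mem_filter, Finset.mem_univ, true_and] at h2
    exact (by decide : ∀ a b : ZMod 2, (a ≠ 0 ↔ b ≠ 0) → b = a) _ _ h2
  rw [h3]
  exact hw'

theorem mem_M24 {g : Equiv.Perm GolayPt} (f : ℕ → ℕ)
    (h : ∀ b ∈ bas.map Prod.fst, red bas (f b) = 0 ∧ ∀ x, wOf b (g.symm x) = wOf (f b) x) : g ∈ M24 := by
  rw [mem_stabilizer_set_iff_smul_set_subset (Set.toFinite _)]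
  rintro _ ⟨_, ⟨w, hw, rfl⟩, rfl⟩
  refine ⟨w ∘ g.symm, ?_, support_comp g w⟩
  obtain ⟨m, hm, rfl⟩ := mem_golay.mp hw
  exact wOf_mem_of_inSpan (C := golayCode.comap (LinearMap.funLeft (ZMod 2) (ZMod 2) g.symm))
    (fun b hb => mem_golay.mpr ⟨f b, inSpan_of_red (h b hb).1, funext (h b hb).2⟩) hm

theorem mem_dodecad : ∀ x : GolayPt, x ∈ Spor.squareDodecad ↔ (340831).testBit (idx x) := by
  decide +kernel

/-- The octads meeting the dodecad in six points. -/
def hexs : List ℕ := [1053483, 1384564, 2232654, 2564625, 145176, 459847, 596054, 797449, 2106966, 2430217,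
  4264387, 4465308, 5279, 337856, 6365962, 6557781, 45159, 361272, 1090380, 1413139, 4403780, 4587803, 140167,
  463064, 2110153, 2425238, 4261212, 4470275, 10558, 334433, 90318, 283537, 1063445, 1378634, 1647171, 1839388,
  4223245, 4538962, 602472, 786999, 39257, 371206, 95313, 280334, 2183687, 2384216, 213833, 421910, 622863,
  832080, 663645, 987906, 57883, 381252, 69395, 277580, 2634003, 2949708, 530245, 861210, 2173253, 2365978,
  210955, 396116, 21116, 352547, 72588, 272595, 1065303, 1405448, 4788761, 4989254, 525274, 864389, 4196943,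
  4536592, 1127686, 1312345, 75309, 267634, 99029, 307594, 4231958, 4563017, 1245726, 1454401, 2162811,
  2372388, 201013, 402026, 3216208, 3416079, 31554, 346141, 1122713, 1315526, 78514, 262637, 104010, 304405,
  2207772, 2392899, 4203377, 4526126, 615188, 806987, 5255258, 5571333, 237906, 430605, 8474906, 8675909,
  8398155, 8721940, 8524371, 8855820, 10486557, 10825794, 8401364, 8716939, 12656663, 12849992, 9506893,
  9708306, 8455014, 8663097, 8499969, 8683614, 8464984, 8657159, 8925710, 9240913]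

/-- The points outside the dodecad. -/
def outs : List GolayPt := [5, 7, 10, 11, 14, 15, 17, 19, 20, 21, 22, 23].map pt

/-- Weight outside the dodecad. -/
def cnt (m : ℕ) : ℕ := [5, 7, 10, 11, 14, 15, 17, 19, 20, 21, 22, 23].countP m.testBit

theorem cnt_eq (m : ℕ) :
    cnt m = (Finset.univ.filter fun x => x ∉ Spor.squareDodecad ∧ m.testBit (idx x)).card := by
  have h1 : ∀ x, x ∉ Spor.squareDodecad ↔ x ∈ outs := by decide +kernel
  have h2 : (Finset.univ.filter fun x => x ∉ Spor.squareDodecad ∧ m.testBit (idx x)) =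
      (outs.filter fun x => m.testBit (idx x)).toFinset := by
    ext x
    simp [h1]
  rw [h2, List.toFinset_card_of_nodup (List.Nodup.filter _ (by decide)), ← List.countP_eq_length_filter]
  rfl

theorem hex_chk : allSpan (fun m => cnt m != 2 || hexs.contains m) (bas.map Prod.fst) 0 = true := by
  decide +kernel

theorem hex_step {g : Equiv.Perm GolayPt} (hg : g ∈ Spor.M12) {m : ℕ} (hm : m ∈ hexs) :
    ∃ m' ∈ hexs, ∀ x, m'.testBit (idx (g x)) = m.testBit (idx x) := by
  obtain ⟨h1, h2⟩ := (by decide +kernel : ∀ m ∈ hexs, red bas m = 0 ∧ cnt m = 2) m hm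
  obtain ⟨m', hm', e⟩ := mem_golay.mp (comp_mem_of_mem (mem_inf.mp hg).1
    (mem_golay.mpr ⟨m, inSpan_of_red h1, rfl⟩))
  have h3 : ∀ x, m'.testBit (idx (g x)) = m.testBit (idx x) := fun x =>
    testBit_eq_of_wOf (by rw [← e]; simp)
  have hD : ∀ x, g x ∈ Spor.squareDodecad ↔ x ∈ Spor.squareDodecad := fun x => by
    conv_lhs => rw [← mem_stabilizer_iff.mp (mem_inf.mp hg).2]
    exact Finset.smul_mem_smul_finset_iff g
  refine ⟨m', ?_, h3⟩
  have h4 : cnt m' = 2 := by
    rw [← h2, cnt_eq, cnt_eq]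
    exact (Finset.card_equiv g fun x => by simp [hD, h3]).symm
  simpa [h4] using allSpan_spec hex_chk hm'

/-- One step of the proof that five points form a base. -/
def stepChk (F : List GolayPt) (u : GolayPt) (ms : List ℕ) : Bool :=
  (List.range 24).all fun i => pt i == u || F.contains (pt i) ||
    ((340831).testBit i != (340831).testBit (idx u)) || ms.any fun m => hexs.contains m &&
      hexs.all fun m' => (F.any fun f => m'.testBit (idx f) != m.testBit (idx f)) ||
        (m'.testBit i != m.testBit (idx u))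

/-- The whole chain of steps. -/
def chainChk : List GolayPt → List (ℕ × List ℕ) → Bool
  | F, [] => (List.range 24).all fun i => F.contains (pt i)
  | F, s :: r => stepChk F (pt s.1) s.2 && chainChk (pt s.1 :: F) r

theorem chain_sound {g : Equiv.Perm GolayPt} (hg : g ∈ Spor.M12) : ∀ (r : List (ℕ × List ℕ))
    (F : List GolayPt), chainChk F r = true → (∀ f ∈ F, g f = f) → g = 1 := by
  have hpt : ∀ x : GolayPt, idx x ∈ List.range 24 ∧ pt (idx x) = x := by decide +kernel
  have hD : ∀ x, g x ∈ Spor.squareDodecad ↔ x ∈ Spor.squareDodecad := fun x => by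
    conv_lhs => rw [← mem_stabilizer_iff.mp (mem_inf.mp hg).2]
    exact Finset.smul_mem_smul_finset_iff g
  intro r
  induction r with
  | nil =>
    intro F h hF
    ext1 x
    have := List.all_eq_true.mp h _ (hpt x).1
    rw [(hpt x).2] at this
    exact hF x (by simpa using this)
  | cons s r ih =>
    intro F h hF
    unfold chainChk at h
    rw [Bool.and_eq_true] at h
    refine ih _ h.2 (List.forall_mem_cons.mpr ⟨?_, hF⟩)
    have h1 := List.all_eq_true.mp h.1 _ (hpt (g (pt s.1))).1
    rw [(hpt _).2] at h1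
    simp only [Bool.or_eq_true, beq_iff_eq, List.contains_iff_mem, bne_iff_ne, List.any_eq_true,
      Bool.and_eq_true, List.all_eq_true] at h1
    rcases h1 with ((h1 | h1) | h1) | ⟨m, -, hm, h1⟩
    · exact h1
    · exact g.injective (hF _ h1)
    · exact absurd (Bool.eq_iff_iff.mpr ((mem_dodecad _).symm.trans ((hD _).trans (mem_dodecad _)))) h1
    · obtain ⟨m', hm', h2⟩ := hex_step hg hm
      rcases h1 m' hm' with ⟨f, hf, h3⟩ | h3
      · exact absurd (by rw [← h2, hF f hf]) h3
      · exact absurd (h2 _) h3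

theorem base_M12 {g : Equiv.Perm GolayPt} (hg : g ∈ Spor.M12) (h : ∀ f ∈ [0, 1, 2, 4, 8].map pt, g f = f) :
    g = 1 :=
  chain_sound hg [(6, [1065303]), (5, [1053483, 45159]), (7, [78514]), (10, [5279]), (11, [10558]),
    (15, [45159]), (17, [145176]), (19, [596054]), (21, [2232654]), (22, [4264387]), (23, [1065303]),
    (3, [2232654, 596054]), (9, [525274]), (12, [1053483]), (13, [145176]), (14, [1053483]), (20, []),
    (16, [596054]), (18, [])] _ (by decide +kernel) h

/-- A permutation of the 24 points given by index lists. -/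
def mkP (l l' : List ℕ) (h : ∀ x, pt (l'.getD (idx (pt (l.getD (idx x) 0))) 0) = x)
    (h' : ∀ x, pt (l.getD (idx (pt (l'.getD (idx x) 0))) 0) = x) : Equiv.Perm GolayPt :=
  ⟨fun x => pt (l.getD (idx x) 0), fun x => pt (l'.getD (idx x) 0), h, h'⟩

/-- Image of a mask. -/
def imgM (l : List ℕ) (m : ℕ) : ℕ := l.foldr (fun i a => 2 * a + if m.testBit i then 1 else 0) 0

/-- The first generator. -/
def ga : Equiv.Perm GolayPt :=
  mkP [0, 2, 4, 6, 8, 10, 12, 14, 16, 18, 20, 22, 1, 3, 5, 7, 9, 11, 13, 15, 17, 19, 21, 23]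
    [0, 12, 1, 13, 2, 14, 3, 15, 4, 16, 5, 17, 6, 18, 7, 19, 8, 20, 9, 21, 10, 22, 11, 23]
    (by decide +kernel) (by decide +kernel)

/-- The second generator. -/
def gb : Equiv.Perm GolayPt :=
  mkP [0, 1, 2, 3, 18, 23, 16, 20, 6, 8, 21, 15, 13, 4, 17, 22, 9, 14, 12, 11, 10, 7, 19, 5]
    [0, 1, 2, 3, 13, 23, 8, 21, 9, 16, 20, 19, 18, 12, 17, 11, 6, 14, 4, 22, 7, 10, 15, 5]
    (by decide +kernel) (by decide +kernel)

theorem ga_mem : ga ∈ Spor.M11 := mem_inf.mpr ⟨mem_inf.mpr ⟨mem_M24
  (imgM [0, 12, 1, 13, 2, 14, 3, 15, 4, 16, 5, 17, 6, 18, 7, 19, 8, 20, 9, 21, 10, 22, 11, 23])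
  (by decide +kernel), mem_stabilizer_iff.mpr (by decide +kernel)⟩, mem_stabilizer_iff.mpr (by decide +kernel)⟩

theorem gb_mem : gb ∈ Spor.M11 := mem_inf.mpr ⟨mem_inf.mpr ⟨mem_M24
  (imgM [0, 1, 2, 3, 13, 23, 8, 21, 9, 16, 20, 19, 18, 12, 17, 11, 6, 14, 4, 22, 7, 10, 15, 5])
  (by decide +kernel), mem_stabilizer_iff.mpr (by decide +kernel)⟩, mem_stabilizer_iff.mpr (by decide +kernel)⟩

/-- The eleven points. -/
def Om : SubMulAction Spor.M11 GolayPt where
  carrier := {x | x ∈ Spor.squareDodecad ∧ x ≠ some 0}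
  smul_mem' := by
    rintro ⟨g, hg⟩ x ⟨h1, h2⟩
    refine ⟨?_, fun h => h2 (g.injective (h.trans (mem_inf.mp hg).2.symm))⟩
    rw [← mem_stabilizer_iff.mp (mem_inf.mp (mem_inf.mp hg).1).2]
    exact Finset.smul_mem_smul_finset h1

/-- The labelling of the eleven points. -/
def lab (i : Fin 11) : GolayPt := pt ([1, 2, 4, 8, 16, 9, 18, 13, 3, 6, 12].getD i 0)

theorem nonempty_M11_equiv : Nonempty (Spor.M11 ≃* Mx) := by
  have h1 : ∀ i, lab i ∈ Spor.squareDodecad ∧ lab i ≠ some 0 := by decide +kernel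
  have h2 : ∀ x, x ∈ Spor.squareDodecad ∧ x ≠ some 0 → ∃ i, lab i = x := by decide +kernel
  have h3 : Function.Injective lab := by decide +kernel
  let e : Fin 11 ≃ Om := Equiv.ofBijective (fun i => ⟨lab i, h1 i⟩)
    ⟨fun i j h => h3 (congrArg Subtype.val h), fun x => (h2 x x.2).imp fun i hi => Subtype.ext hi⟩
  have hb : ∀ g : Spor.M11, (∀ i : Fin 4, g • e (i.castLE (by decide)) = e (i.castLE (by decide))) → g = 1 := by
    intro g hg
    refine Subtype.ext (base_M12 (mem_inf.mp g.2).1 ?_)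
    simp only [List.map, List.forall_mem_cons, List.not_mem_nil, false_imp_iff, implies_true, and_true]
    exact ⟨(mem_inf.mp g.2).2, congrArg Subtype.val (hg 0), congrArg Subtype.val (hg 1),
      congrArg Subtype.val (hg 2), congrArg Subtype.val (hg 3)⟩
  have : FaithfulSMul Spor.M11 Om := ⟨fun {g h} e => inv_mul_eq_one.mp (hb _ fun x => by
    rw [mul_smul, ← e, inv_smul_smul])⟩
  refine nonempty_equiv_Mx ?_ e.symm ⟨⟨ga, ga_mem⟩, fun x => ?_⟩ ⟨⟨gb, gb_mem⟩, fun x => ?_⟩
  · let y : Fin 4 ↪ Om := (Fin.castLEEmb (by decide)).trans e.toEmbedding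
    have := Nat.card_le_card_of_injective (fun g : Spor.M11 => g • y) fun g h hgh => by
      refine inv_mul_eq_one.mp (hb _ fun i => ?_)
      rw [mul_smul, inv_smul_eq_iff]
      exact (DFunLike.congr_fun hgh i).symm
    refine this.trans (le_of_eq ?_)
    rw [Nat.card_congr (Equiv.embeddingCongr (Equiv.refl _) e.symm), Nat.card_eq_fintype_card,
      Fintype.card_embedding_eq]
    rfl
  · obtain ⟨i, rfl⟩ := e.surjective x
    rw [Equiv.symm_apply_eq, Equiv.symm_apply_apply]
    exact Subtype.ext ((by decide +kernel : ∀ i, ga (lab i) = lab (pa i)) i)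
  · obtain ⟨i, rfl⟩ := e.surjective x
    rw [Equiv.symm_apply_eq, Equiv.symm_apply_apply]
    exact Subtype.ext ((by decide +kernel : ∀ i, gb (lab i) = lab (pb i)) i)

end Cfsg.Agent.M11
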